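import Cfsg.Agent.Lib.DegreeTools.VanishSingular.RegularOrbit
import Cfsg.Agent.Lib.Coprime.Generation
import Cfsg.Agent.Lib.Coprime.Action
import Cfsg.Agent.Lib.Components.PComponents
import Cfsg.Agent.Lib.Components.SFT.Criterion
import Cfsg.Agent.Lib.Solvable.Basic
import Cfsg.Agent.Lib.Solvable.Cores
import Cfsg.Agent.Lib.Solvable.FrattiniFitting
import Cfsg.Agent.Lib.CharDeep.IrrTools
import Cfsg.Agent.Lib.Char.Quotient
import Cfsg.Agent.Lib.Char.Orth

/-!
# Solvable groups whose vanishing `p`-singular elements all have one order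

If all `p`-singular vanishing elements of a finite solvable group have the same order, then a Sylow
`p`-subgroup has order at most `p * |O_p(G)|`.
-/

set_option autoImplicit false

namespace CfsgLib.DegreeTools.VanishSingular

open Subgroup CfsgLib CfsgLib.Char CfsgLib.Char.LinearOverNormal
open CfsgLib.Solvable
open scoped commutatorElement

universe u

/-- `g` is a zero of some irreducible character. -/
def Van {G : Type u} [Group G] (g : G) : Prop := ∃ χ : Cfsg.IrrCharacter G, (χ : G → ℂ) g = 0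

/-- The consequences of equal orders that pass to the quotient by the `p`-core. -/
structure Hyp (p : ℕ) (G : Type u) [Group G] : Prop where
  ppart : ∀ g h : G, Van g → Van h → p ∣ orderOf g → p ∣ orderOf h →
    (∃ k, orderOf g = p ^ k) → ∃ k, orderOf h = p ^ k
  step : ∀ g : G, Van g → p ∣ orderOf g → Van (g ^ p) → p ∣ orderOf (g ^ p) → False

variable {G : Type u} [Group G] [Finite G] {p : ℕ} [hp : Fact p.Prime]

theorem hyp_quotient {b : ℕ} (hb : ∀ g : G, Van g → p ∣ orderOf g → orderOf g = b) :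
    Hyp p (G ⧸ Cfsg.pCore p G) := by
  classical
  set N := Cfsg.pCore p G
  set f := QuotientGroup.mk' N
  have hlift : ∀ g : G, Van (f g) → p ∣ orderOf (f g) → Van g ∧ p ∣ orderOf g := by
    intro g ⟨χ, hχ⟩ hd
    exact ⟨⟨⟨_, IsIrrCharacter.comp_surjective χ.2 f (QuotientGroup.mk'_surjective N)⟩, hχ⟩,
      hd.trans (orderOf_map_dvd f g)⟩
  constructor
  · intro x y hx hy hdx hdy ⟨k, hk⟩
    obtain ⟨g, rfl⟩ := QuotientGroup.mk'_surjective N x
    obtain ⟨h, rfl⟩ := QuotientGroup.mk'_surjective N y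
    obtain ⟨hg, hdg⟩ := hlift g hx hdx
    obtain ⟨hh, hdh⟩ := hlift h hy hdy
    have h1 : g ^ p ^ k ∈ N := by
      rw [← QuotientGroup.eq_one_iff, QuotientGroup.mk_pow, ← hk]
      exact pow_orderOf_eq_one (f g)
    obtain ⟨j, hj⟩ := Cores.isPGroup_pCore p ⟨_, h1⟩
    have h2 : g ^ (p ^ k * p ^ j) = 1 := by
      rw [pow_mul]; exact congrArg Subtype.val hj
    have h3 : orderOf h ∣ p ^ (k + j) := by
      rw [hb h hh hdh, ← hb g hg hdg, pow_add]
      exact orderOf_dvd_of_pow_eq_one h2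
    obtain ⟨i, -, hi⟩ := (Nat.dvd_prime_pow hp.out).mp ((orderOf_map_dvd f h).trans h3)
    exact ⟨i, hi⟩
  · intro x hx hdx hxp hdxp
    obtain ⟨g, rfl⟩ := QuotientGroup.mk'_surjective N x
    obtain ⟨hg, hdg⟩ := hlift g hx hdx
    rw [← map_pow] at hxp hdxp
    obtain ⟨hgp, hdgp⟩ := hlift (g ^ p) hxp hdxp
    have h1 := hb _ hgp hdgp
    rw [orderOf_pow_of_dvd hp.out.ne_zero hdg, hb g hg hdg] at h1
    have hb0 : 0 < b := by rw [← hb g hg hdg]; exact orderOf_pos g
    exact absurd h1 (Nat.div_lt_self hb0 hp.out.one_lt).ne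

local notation "Kp" => Cfsg.pPrimeCore p G

variable (p) in
/-- Every preimage of `x` modulo the `p'`-core vanishes. -/
def CV (x : G ⧸ Cfsg.pPrimeCore p G) : Prop :=
  ∀ g : G, QuotientGroup.mk' (Cfsg.pPrimeCore p G) g = x → Van g

omit [Finite G] in
theorem dvd_orderOf_of_ne_one {H : Type*} [Group H] {x : H} {k : ℕ}
    (hk : x ^ p ^ k = 1) (hx : x ≠ 1) : p ∣ orderOf x := by
  obtain ⟨i, -, hi⟩ := (Nat.dvd_prime_pow Fact.out).mp (orderOf_dvd_of_pow_eq_one hk)
  rcases Nat.eq_zero_or_pos i with rfl | hi0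
  · exact absurd (orderOf_eq_one_iff.mp (by simpa using hi)) hx
  · rw [hi]; exact dvd_pow_self p hi0.ne'

/-- A `p`-element whose coset vanishes centralises no nonidentity `p'`-element of the core. -/
theorem kill (hV : Hyp p G) {g : G} {k : ℕ} (hg : g ^ p ^ k = 1)
    (hne : QuotientGroup.mk' Kp g ≠ 1) (hcv : CV p (QuotientGroup.mk' Kp g))
    {c : G} (hc : c ∈ Kp) (hcom : Commute g c) : c = 1 := by
  have hne' : g ≠ 1 := fun h => hne (by rw [h, map_one])
  have hfgc : QuotientGroup.mk' Kp (g * c) = QuotientGroup.mk' Kp g := by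
    rw [map_mul, show QuotientGroup.mk' Kp c = 1 from (QuotientGroup.eq_one_iff c).mpr hc, mul_one]
  have hd1 : p ∣ orderOf g := dvd_orderOf_of_ne_one hg hne'
  have hd2 : p ∣ orderOf (g * c) := by
    refine (dvd_orderOf_of_ne_one (k := k) ?_ hne).trans
      (hfgc ▸ orderOf_map_dvd (QuotientGroup.mk' Kp) (g * c))
    rw [← map_pow, hg, map_one]
  obtain ⟨i, -, hi⟩ := (Nat.dvd_prime_pow hp.out).mp (orderOf_dvd_of_pow_eq_one hg)
  obtain ⟨j, hj⟩ := hV.ppart g (g * c) (hcv g rfl) (hcv _ hfgc) hd1 hd2 ⟨i, hi⟩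
  have h1 : g ^ p ^ (k + j) = 1 := by rw [pow_add, pow_mul, hg, one_pow]
  have h2 : (g * c) ^ p ^ (k + j) = 1 := by
    rw [add_comm, pow_add, pow_mul, ← hj, pow_orderOf_eq_one, one_pow]
  rw [hcom.mul_pow, h1, one_mul] at h2
  have h3 : orderOf c ∣ (p ^ (k + j)).gcd (Nat.card Kp) :=
    Nat.dvd_gcd (orderOf_dvd_of_pow_eq_one h2) (Subgroup.orderOf_dvd_natCard Kp hc)
  rw [((Cores.coprime_card_pPrimeCore p).symm.pow_left (k + j))] at h3
  exact orderOf_eq_one_iff.mp (Nat.dvd_one.mp h3)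

/-- No `p`-element has vanishing coset together with its nontrivial `p`-th power. -/
theorem no_step (hV : Hyp p G) {x : G ⧸ Kp} {k : ℕ} (hx : x ^ p ^ k = 1)
    (hxp : x ^ p ≠ 1) (h1 : CV p x) (h2 : CV p (x ^ p)) : False := by
  obtain ⟨g, rfl⟩ := QuotientGroup.mk'_surjective Kp x
  have h3 : p ∣ orderOf (QuotientGroup.mk' Kp g) :=
    dvd_orderOf_of_ne_one hx fun h => hxp (by rw [h, one_pow])
  have h4 : p ∣ orderOf ((QuotientGroup.mk' Kp g) ^ p) :=
    dvd_orderOf_of_ne_one (k := k) (by rw [pow_right_comm, hx, one_pow]) hxp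
  refine hV.step g (h1 g rfl) (h3.trans (orderOf_map_dvd _ g)) (h2 _ (map_pow _ g p)) ?_
  rw [← map_pow] at h4
  exact h4.trans (orderOf_map_dvd _ (g ^ p))

/-- A Sylow subgroup of the preimage of a `p`-subgroup maps onto it bijectively. -/
theorem exists_lift (E : Subgroup (G ⧸ Kp)) (hE : IsPGroup p E) :
    ∃ E0 : Subgroup G, E0.map (QuotientGroup.mk' Kp) = E ∧ Kp ⊓ E0 = ⊥ ∧ IsPGroup p E0 ∧
      Nat.card E0 = Nat.card E ∧ (Nat.card E0).Coprime (Nat.card Kp) := by
  set f := QuotientGroup.mk' Kp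
  let X := E.comap f
  let P0 : Sylow p X := default
  let E0 : Subgroup G := (P0 : Subgroup X).map X.subtype
  have hpg : IsPGroup p E0 := P0.isPGroup'.map X.subtype
  obtain ⟨a, ha⟩ := hE.exists_card_eq
  have hX : Nat.card X = p ^ a * Nat.card Kp := by
    rw [show X = E.comap (QuotientGroup.mk' Kp) from rfl, Basic.card_comap_mk, ha, mul_comm]
  have hndvd : ¬ p ∣ Nat.card Kp :=
    (Nat.Prime.coprime_iff_not_dvd hp.out).mp (Cores.coprime_card_pPrimeCore p).symm
  have hc : Nat.card E0 = Nat.card E := by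
    rw [show E0 = (P0 : Subgroup X).map X.subtype from rfl, Subgroup.card_map_of_injective
      X.subtype_injective, P0.card_eq_multiplicity, hX, Nat.factorization_mul
      (pow_ne_zero _ hp.out.ne_zero) Nat.card_pos.ne', Finsupp.add_apply,
      Nat.Prime.factorization_pow hp.out, Finsupp.single_eq_same,
      Nat.factorization_eq_zero_of_not_dvd hndvd, add_zero, ha]
  have hcop : (Nat.card E0).Coprime (Nat.card Kp) := by
    rw [hc, ha]; exact Nat.Coprime.pow_left a ((Nat.Prime.coprime_iff_not_dvd hp.out).mpr hndvd)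
  have hdis : Kp ⊓ E0 = ⊥ := (disjoint_of_coprime_natCard hcop.symm).eq_bot
  refine ⟨E0, ?_, hdis, hpg, hc, hcop⟩
  have hle : E0.map f ≤ E := by
    rintro _ ⟨_, ⟨x, -, rfl⟩, rfl⟩
    exact x.2
  refine Subgroup.eq_of_le_of_card_ge hle ?_
  rw [Basic.card_map_mk_of_disjoint Kp E0 hdis, hc]

/-- An abelian subgroup of exponent `p` all of whose nonidentity cosets vanish has order at most `p`. -/
theorem card_le_of_all_cv (hV : Hyp p G) (hK : Kp ≠ ⊥) (T : Subgroup (G ⧸ Kp))
    (hTc : ∀ x ∈ T, ∀ y ∈ T, x * y = y * x) (hTp : ∀ x ∈ T, x ^ p = 1)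
    (hcv : ∀ x ∈ T, x ≠ 1 → CV p x) : Nat.card T ≤ p := by
  obtain ⟨E0, hmap, hdis, -, hcard, hcop⟩ :=
    exists_lift T fun x => ⟨1, Subtype.ext (by simpa using hTp x x.2)⟩
  have hf : ∀ e ∈ E0, QuotientGroup.mk' Kp e = 1 → e = 1 := fun e he h =>
    Subgroup.mem_bot.mp (hdis ▸ ⟨(QuotientGroup.eq_one_iff e).mp h, he⟩)
  have hmem : ∀ e ∈ E0, QuotientGroup.mk' Kp e ∈ T := fun e he =>
    hmap ▸ Subgroup.mem_map_of_mem _ he
  haveI : IsMulCommutative E0 := by
    refine CfsgLib.Solvable.Basic.isMulCommutative_subgroup_iff.mpr fun a ha b hb => ?_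
    have h1 : a * b * (b * a)⁻¹ = 1 := hf _ (E0.mul_mem (E0.mul_mem ha hb)
      (E0.inv_mem (E0.mul_mem hb ha))) (by
        rw [map_mul, map_inv, map_mul, map_mul, hTc _ (hmem a ha) _ (hmem b hb), mul_inv_cancel])
    exact mul_inv_eq_one.mp h1
  have hexp : ∀ e : E0, e ^ p = 1 := fun e => Subtype.ext (by
    simpa using hf _ (E0.pow_mem e.2 p) (by rw [map_pow]; exact hTp _ (hmem e e.2)))
  by_cases hcyc : IsCyclic E0
  · rw [← hcard, ← IsCyclic.exponent_eq_card]
    exact Nat.le_of_dvd hp.out.pos (Monoid.exponent_dvd_of_forall_pow_eq_one hexp)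
  refine absurd ?_ hK
  rw [← CfsgLib.Coprime.iSup_centralizer_singleton (K := Kp) hcyc
    (by rw [Subgroup.normalizer_eq_top]; exact le_top) hcop]
  refine eq_bot_iff.mpr (iSup₂_le fun e he => ?_)
  intro c hc
  obtain ⟨hcK, hce⟩ := Subgroup.mem_inf.mp hc
  have hne : QuotientGroup.mk' Kp e ≠ 1 := fun h => he.2 (hf e he.1 h)
  refine Subgroup.mem_bot.mpr (kill hV (k := 1) ?_ hne (hcv _ (hmem e he.1) hne) hcK ?_)
  · rw [pow_one]; exact congrArg Subtype.val (hexp ⟨e, he.1⟩)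
  · exact Subgroup.mem_centralizer_singleton_iff.mp hce |>.symm

variable [Group.IsSolvable G]

/-- The chief layer attached to a normal elementary abelian `p`-subgroup of `G / O_{p'}(G)`. -/
theorem layer (hO : Cfsg.pCore p G = ⊥) (E : Subgroup (G ⧸ Kp)) [E.Normal]
    (hEc : ∀ x ∈ E, ∀ y ∈ E, x * y = y * x) (hEp : ∀ x ∈ E, x ^ p = 1) (hE1 : E ≠ ⊥) :
    ∃ D : Subgroup (G ⧸ Kp), D.Normal ∧ D ≤ E ∧ D ≠ E ∧
      (∀ g : G, (∃ k, g ^ p ^ k = 1) → QuotientGroup.mk' Kp g ∈ D →
        ∃ c ∈ Kp, c ≠ 1 ∧ Commute g c) ∧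
      (D = ⊥ → ∃ χ : Cfsg.IrrCharacter G, ∀ (g : G) (j : ℕ),
        QuotientGroup.mk' Kp g ^ j ∈ E → QuotientGroup.mk' Kp g ^ j ≠ 1 → (χ : G → ℂ) g = 0) := by
  classical
  cases nonempty_fintype G
  set K := Cfsg.pPrimeCore p G with hKdef
  set f := QuotientGroup.mk' K with hfdef
  obtain ⟨E0, hmap, hdis, hEpg, -, hcop⟩ :=
    exists_lift (p := p) E fun x => ⟨1, Subtype.ext (by simpa using hEp x x.2)⟩
  have hf : ∀ e ∈ E0, f e = 1 → e = 1 := fun e he h =>
    Subgroup.mem_bot.mp (hdis ▸ ⟨(QuotientGroup.eq_one_iff e).mp h, he⟩)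
  have hmem : ∀ e ∈ E0, f e ∈ E := fun e he => hmap ▸ Subgroup.mem_map_of_mem _ he
  have hecomm : ∀ a ∈ E0, ∀ b ∈ E0, a * b = b * a := fun a ha b hb =>
    mul_inv_eq_one.mp (hf _ (E0.mul_mem (E0.mul_mem ha hb) (E0.inv_mem (E0.mul_mem hb ha))) (by
      rw [map_mul, map_inv, map_mul, map_mul, hEc _ (hmem a ha) _ (hmem b hb), mul_inv_cancel]))
  have hep : ∀ e ∈ E0, e ^ p = 1 := fun e he =>
    hf _ (E0.pow_mem he p) (by rw [map_pow]; exact hEp _ (hmem e he))
  have hdec : ∀ x : G, f x ∈ E → ∃ e ∈ E0, ∃ k ∈ K, x = k * e := by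
    intro x hx
    rw [← hmap] at hx
    obtain ⟨e, he, hex⟩ := hx
    refine ⟨e, he, x * e⁻¹, ?_, by group⟩
    rw [← QuotientGroup.eq_one_iff]
    show f (x * e⁻¹) = 1
    rw [map_mul, map_inv, hex, mul_inv_cancel]
  have hcopK : (Nat.card K).Coprime p := Cores.coprime_card_pPrimeCore p
  -- `E0` does not centralise `K`
  have hne0 : ¬ ⁅K, E0⁆ = ⊥ := by
    intro h
    rw [Subgroup.commutator_eq_bot_iff_le_centralizer] at h
    haveI : E0.Normal := ⟨fun e he g => by
      have hfe : f (g * e * g⁻¹) ∈ E := by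
        rw [map_mul, map_mul, map_inv]
        exact Subgroup.Normal.conj_mem inferInstance _ (hmem e he) _
      obtain ⟨e', he', k, hk, heq⟩ := hdec _ hfe
      have hc : Commute k e' := (Subgroup.mem_centralizer_iff.mp (h hk) e' he').symm
      have h1 : (g * e * g⁻¹) ^ p = 1 := by rw [conj_pow, hep e he]; group
      rw [heq, hc.mul_pow, hep e' he', mul_one] at h1
      have h2 : orderOf k ∣ (Nat.card K).gcd p :=
        Nat.dvd_gcd (Subgroup.orderOf_dvd_natCard K hk) (orderOf_dvd_of_pow_eq_one h1)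
      rw [hcopK] at h2
      rw [heq, orderOf_eq_one_iff.mp (Nat.dvd_one.mp h2), one_mul]
      exact he'⟩
    apply hE1
    rw [← hmap, eq_bot_iff]
    rintro _ ⟨e, he, rfl⟩
    have := Cores.le_pCore hEpg he
    rw [hO, Subgroup.mem_bot] at this
    rw [this, map_one]; exact Subgroup.one_mem _
  obtain ⟨Y, hY, hYmax⟩ := Set.Finite.exists_maximal
    (Set.toFinite {N : Subgroup G | N.Normal ∧ N ≤ K ∧ ¬ ⁅K, E0⁆ ≤ N})
    ⟨⊥, inferInstance, bot_le, fun h => hne0 (le_bot_iff.mp h)⟩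
  obtain ⟨hYn, hYK, hYne⟩ := hY
  haveI := hYn
  set π := QuotientGroup.mk' Y with hπ
  set K1 := K.map π
  haveI : K1.Normal := Subgroup.Normal.map inferInstance _ (QuotientGroup.mk'_surjective Y)
  have hK1 : K1 ≠ ⊥ := by
    intro h
    rw [Subgroup.map_eq_bot_iff, QuotientGroup.ker_mk'] at h
    apply hYne
    rw [Subgroup.commutator_le]
    intro k hk e _
    apply h
    rw [commutatorElement_def, mul_assoc k e, mul_assoc k]
    exact K.mul_mem hk ((inferInstance : K.Normal).conj_mem _ (K.inv_mem hk) e)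
  obtain ⟨W, r, -, hWn, hW1, hWle, hWc, -, -⟩ := Basic.exists_minimal_normal_pgroup hK1
  haveI := hWn
  have hWcom : IsMulCommutative W := hWc
  set E1 := E0.map π
  set W' := W.comap π
  have hW'K : W' ≤ K := by
    refine (Subgroup.comap_mono hWle).trans ?_
    rw [Subgroup.comap_map_eq, QuotientGroup.ker_mk']
    exact sup_le le_rfl hYK
  have hcommW : ⁅K, E0⁆ ≤ W' := by
    by_contra h
    have hYW : Y ≤ W' := by
      intro y hy
      show π y ∈ W
      rw [show π y = 1 from (QuotientGroup.eq_one_iff y).mpr hy]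
      exact W.one_mem
    have h2 : W' ≤ Y := hYmax ⟨inferInstance, hW'K, h⟩ hYW
    apply hW1
    rw [← Subgroup.map_comap_eq_self_of_surjective (QuotientGroup.mk'_surjective Y) W,
      Subgroup.map_eq_bot_iff, QuotientGroup.ker_mk']
    exact h2
  set CG := (Subgroup.centralizer (W : Set (G ⧸ Y))).comap π
  set X := E.comap f
  let D : Subgroup (G ⧸ K) := (X ⊓ CG).map f
  haveI hDn : D.Normal := Subgroup.Normal.map inferInstance _ (QuotientGroup.mk'_surjective K)
  -- a `p`-element whose image lies in `D` centralises `W`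
  have hDC : ∀ g : G, (∃ k, g ^ p ^ k = 1) → f g ∈ D → g ∈ CG := by
    rintro g ⟨n, hn⟩ ⟨c, hc, hcg⟩
    have hk : c⁻¹ * g ∈ K := QuotientGroup.eq.mp hcg
    let h := QuotientGroup.mk' CG
    have h1 : h g = h (c⁻¹ * g) := by
      rw [map_mul, map_inv, show h c = 1 from (QuotientGroup.eq_one_iff c).mpr hc.2, inv_one, one_mul]
    have h2 : orderOf (h g) ∣ (Nat.card K).gcd (p ^ n) := by
      refine Nat.dvd_gcd ?_ (orderOf_dvd_of_pow_eq_one (by rw [← map_pow, hn, map_one]))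
      rw [h1]
      exact (orderOf_map_dvd h _).trans (Subgroup.orderOf_dvd_natCard K hk)
    rw [hcopK.pow_right n] at h2
    exact (QuotientGroup.eq_one_iff g).mp (orderOf_eq_one_iff.mp (Nat.dvd_one.mp h2))
  have hpow : ∀ e ∈ E0, ∃ k, e ^ p ^ k = 1 := fun e he => ⟨1, by rw [pow_one]; exact hep e he⟩
  have hcop1 : (Nat.card E1).Coprime (Nat.card W) :=
    Nat.Coprime.coprime_dvd_left (Subgroup.card_map_dvd E0 π)
      (Nat.Coprime.coprime_dvd_right ((Subgroup.card_dvd_of_le hWle).trans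
        (Subgroup.card_map_dvd K π)) hcop)
  have hE1c : IsMulCommutative E1 := CfsgLib.Solvable.Basic.isMulCommutative_subgroup_iff.mpr (by
    rintro _ ⟨a, ha, rfl⟩ _ ⟨b, hb, rfl⟩
    rw [← map_mul, ← map_mul, hecomm a ha b hb])
  have hcW : ∀ k ∈ K, ∀ e ∈ E0, ⁅π k, π e⁆ ∈ W := fun k hk e he => by
    rw [← map_commutatorElement]
    exact hcommW (Subgroup.commutator_mem_commutator hk he)
  refine ⟨D, hDn, ?_, ?_, ?_, ?_⟩
  · rintro _ ⟨x, hx, rfl⟩; exact hx.1
  · -- `D ≠ E`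
    intro hDE
    have hcen : E1 ≤ Subgroup.centralizer (W : Set (G ⧸ Y)) := by
      rintro _ ⟨e, he, rfl⟩
      exact hDC e (hpow e he) (hDE ▸ hmem e he)
    have hsup : K1 ≤ W ⊔ (K1 ⊓ Subgroup.centralizer (E1 : Set (G ⧸ Y))) :=
      CfsgLib.Coprime.le_sup_centralizer (by rw [Subgroup.normalizer_eq_top]; exact le_top) hWle
        hcop1 (.inr (CfsgLib.Coprime.isSolvable_of_le le_top inferInstance)) fun a ha k hk => by
          obtain ⟨e, he, rfl⟩ := ha
          obtain ⟨k', hk', rfl⟩ := hk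
          exact CfsgLib.Coprime.commutatorElement_mem_iff.mp (hcW k' hk' e he)
    have hK1c : K1 ≤ Subgroup.centralizer (E1 : Set (G ⧸ Y)) :=
      hsup.trans (sup_le (Subgroup.le_centralizer_iff.mp hcen) inf_le_right)
    apply hYne
    rw [Subgroup.commutator_le]
    intro k hk e he
    rw [← QuotientGroup.eq_one_iff]
    show π ⁅k, e⁆ = 1
    rw [map_commutatorElement, commutatorElement_eq_one_iff_mul_comm]
    exact (Subgroup.mem_centralizer_iff.mp (hK1c (Subgroup.mem_map_of_mem π hk)) (π e)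
      (Subgroup.mem_map_of_mem π he)).symm
  · -- fixed points
    rintro g ⟨n, hn⟩ hgD
    have hgC : π g ∈ Subgroup.centralizer (W : Set (G ⧸ Y)) := hDC g ⟨n, hn⟩ hgD
    obtain ⟨w, hw, hw1⟩ := W.bot_or_exists_ne_one.resolve_left hW1
    obtain ⟨k, hk, rfl⟩ := hWle hw
    have hcg : (Nat.card (Subgroup.zpowers g)).Coprime (Nat.card Y) := by
      rw [Nat.card_zpowers]
      exact Nat.Coprime.coprime_dvd_left (orderOf_dvd_of_pow_eq_one hn)
        (Nat.Coprime.coprime_dvd_right (Subgroup.card_dvd_of_le hYK) (hcopK.pow_right n).symm)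
    obtain ⟨c, hc, hkc⟩ := CfsgLib.Coprime.exists_centralizer_inv_mul_mem
      (A := Subgroup.zpowers g) (K := K) (N := Y)
      (by rw [Subgroup.normalizer_eq_top]; exact le_top) hYK
      (by rw [Subgroup.normalizer_eq_top]; exact le_top) hcg
      (.inl (CfsgLib.Coprime.isSolvable_zpowers g)) hk (fun a ha => by
        obtain ⟨i, rfl⟩ := Subgroup.mem_zpowers_iff.mp ha
        rw [← QuotientGroup.eq_one_iff]
        show π ⁅g ^ i, k⁆ = 1
        rw [map_commutatorElement, map_zpow, commutatorElement_eq_one_iff_mul_comm]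
        exact (Subgroup.mem_centralizer_iff.mp (zpow_mem hgC i) (π k) hw).symm)
    obtain ⟨hcK, hcc⟩ := Subgroup.mem_inf.mp hc
    refine ⟨c, hcK, fun h => hw1 ?_, Subgroup.mem_centralizer_iff.mp hcc g (Subgroup.mem_zpowers g)⟩
    rw [h, mul_one] at hkc
    exact (QuotientGroup.eq_one_iff k).mpr (inv_mem_iff.mp hkc)
  · -- the character
    intro hD
    have hfaith : ∀ x ∈ E1, (∀ w ∈ W, x * w = w * x) → x = 1 := by
      rintro _ ⟨e, he, rfl⟩ hc
      have hmemD : f e ∈ D :=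
        ⟨e, ⟨hmem e he, Subgroup.mem_centralizer_iff.mpr fun w hw => (hc w hw).symm⟩, rfl⟩
      rw [hD, Subgroup.mem_bot] at hmemD
      rw [hf e he hmemD, map_one]
    obtain ⟨μ, hμ⟩ := exists_regular_char W E1 hWcom hE1c hcop1 hfaith
    obtain ⟨χ, hχ⟩ := exists_vanishing (G := G ⧸ Y) μ
    refine ⟨⟨_, IsIrrCharacter.comp_surjective χ.2 π (QuotientGroup.mk'_surjective Y)⟩,
      fun g j hgj hgj1 => hχ (π g) fun y hy => ?_⟩
    obtain ⟨x, rfl⟩ := QuotientGroup.mk'_surjective Y y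
    set S := stab (G := G ⧸ Y) (fn μ)
    have hWS : W ≤ S := le_stab (IsIrrCharacter.isClassFunction (isIrrCharacter_hom μ))
    set h := (x⁻¹ * g * x) ^ j with hh
    have hhS : π h ∈ S := by
      rw [hh, map_pow, map_mul, map_mul, map_inv]
      exact S.pow_mem hy j
    have hfh : f h = (f x)⁻¹ * f g ^ j * f x := by
      have : h = x⁻¹ * g ^ j * x := by
        rw [hh]
        have := conj_pow (a := x⁻¹) (b := g) (i := j)
        simpa using this
      rw [this, map_mul, map_mul, map_inv, map_pow]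
    have hhE : f h ∈ E := by
      rw [hfh]
      simpa using Subgroup.Normal.conj_mem (inferInstance : E.Normal) _ hgj (f x)⁻¹
    have hh1 : f h ≠ 1 := by
      rw [hfh]
      intro e
      apply hgj1
      rw [mul_assoc, inv_mul_eq_one] at e
      exact mul_eq_right.mp e.symm
    obtain ⟨e, he, k, hk, hke⟩ := hdec h hhE
    let q := QuotientGroup.mk' W
    have hkm : k ^ Nat.card K = 1 := congrArg Subtype.val (pow_card_eq_one' (x := (⟨k, hk⟩ : K)))
    have hcq : Commute (q (π k)) (q (π e)) := by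
      rw [commute_iff_eq, ← commutatorElement_eq_one_iff_mul_comm, ← map_commutatorElement]
      exact (QuotientGroup.eq_one_iff _).mpr (hcW k hk e he)
    have h1 : q (π (h ^ Nat.card K)) = q (π (e ^ Nat.card K)) := by
      rw [hke, map_pow, map_pow, map_mul, map_mul, hcq.mul_pow, ← map_pow, ← map_pow, hkm,
        map_one, map_one, one_mul, map_pow, map_pow]
    have h2 : π (e ^ Nat.card K) ∈ S := by
      have h3 : (π (h ^ Nat.card K))⁻¹ * π (e ^ Nat.card K) ∈ S := hWS (QuotientGroup.eq.mp h1)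
      have h4 : π (h ^ Nat.card K) ∈ S := by rw [map_pow]; exact S.pow_mem hhS _
      simpa using S.mul_mem h4 h3
    have h5 : π (e ^ Nat.card K) = 1 :=
      hμ _ (Subgroup.mem_map_of_mem π (E0.pow_mem he _)) h2
    have h6 : e ^ Nat.card K = 1 :=
      Subgroup.mem_bot.mp (hdis ▸ ⟨hYK ((QuotientGroup.eq_one_iff _).mp h5), E0.pow_mem he _⟩)
    have h7 : orderOf e ∣ (Nat.card K).gcd p :=
      Nat.dvd_gcd (orderOf_dvd_of_pow_eq_one h6) (orderOf_dvd_of_pow_eq_one (hep e he))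
    rw [hcopK] at h7
    apply hh1
    rw [hke, orderOf_eq_one_iff.mp (Nat.dvd_one.mp h7), mul_one]
    exact (QuotientGroup.eq_one_iff k).mpr hk

/-- Every normal elementary abelian `p`-subgroup of `G / O_{p'}(G)` has vanishing cosets. -/
theorem exists_char (hV : Hyp p G) (hO : Cfsg.pCore p G = ⊥) : ∀ (n : ℕ) (E : Subgroup (G ⧸ Kp)),
    Nat.card E ≤ n → E.Normal → (∀ x ∈ E, ∀ y ∈ E, x * y = y * x) → (∀ x ∈ E, x ^ p = 1) → E ≠ ⊥ →
    ∃ χ : Cfsg.IrrCharacter G, ∀ (g : G) (j : ℕ), QuotientGroup.mk' Kp g ^ j ∈ E →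
      QuotientGroup.mk' Kp g ^ j ≠ 1 → (χ : G → ℂ) g = 0 := by
  intro n
  induction n with
  | zero => intro E h; exact absurd h (Nat.not_le.mpr Nat.card_pos)
  | succ n ih =>
    intro E hcard hEn hEc hEp hE1
    obtain ⟨D, hDn, hDE, hDne, hfix, hchar⟩ := layer hO E hEc hEp hE1
    by_cases hD : D = ⊥
    · exact hchar hD
    exfalso
    have hlt : Nat.card D < Nat.card E := lt_of_le_of_ne (Subgroup.card_le_of_le hDE) fun h =>
      hDne (Subgroup.eq_of_le_of_card_ge hDE h.ge)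
    obtain ⟨χ, hχ⟩ := ih D (by omega) hDn (fun x hx y hy => hEc x (hDE hx) y (hDE hy))
      (fun x hx => hEp x (hDE hx)) hD
    obtain ⟨E0, hmap, hdis, -, -, -⟩ :=
      exists_lift (p := p) D fun x => ⟨1, Subtype.ext (by simpa using hEp x (hDE x.2))⟩
    obtain ⟨d, hd, hd1⟩ := D.bot_or_exists_ne_one.resolve_left hD
    rw [← hmap] at hd
    obtain ⟨g, hg, rfl⟩ := hd
    have hgD : QuotientGroup.mk' Kp g ∈ D := hmap ▸ Subgroup.mem_map_of_mem _ hg
    have hgp : g ^ p ^ 1 = 1 := by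
      rw [pow_one]
      refine Subgroup.mem_bot.mp (hdis ▸ ⟨?_, E0.pow_mem hg p⟩)
      refine (QuotientGroup.eq_one_iff _).mp ?_
      rw [QuotientGroup.mk_pow]
      exact hEp _ (hDE hgD)
    obtain ⟨c, hc, hc1, hcom⟩ := hfix g ⟨1, hgp⟩ hgD
    exact hc1 (kill hV hgp hd1 (fun g' hg' => ⟨χ, hχ g' 1 (by rw [pow_one, hg']; exact hgD)
      (by rw [pow_one, hg']; exact hd1)⟩) hc hcom)

omit [Group.IsSolvable G] hp in
/-- Averaging over a normal subgroup outside the kernel. -/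
theorem char_eq_zero_of_translate {χ : Cfsg.IrrCharacter G} (E : Subgroup G) [E.Normal] {z b : G}
    (hz : z ∈ E) (hne : (χ : G → ℂ) z ≠ (χ : G → ℂ) 1)
    (hb : ∀ a ∈ E, (χ : G → ℂ) (a * b) = (χ : G → ℂ) b) : (χ : G → ℂ) b = 0 := by
  classical
  let : Fintype E := Fintype.ofFinite E
  obtain ⟨χ, n, ρ, hρ, rfl⟩ := χ
  have : ρ.IsIrreducible := hρ
  set P := ∑ a : E, ρ (a : G) with hP
  obtain ⟨c, hc⟩ := CharDeep.IrrTools.exists_smul_of_commute ρ P fun g => by
    rw [hP, Finset.sum_mul, Finset.mul_sum]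
    refine Fintype.sum_equiv (MulAut.conjNormal g⁻¹ : MulAut E).toEquiv _ _ fun a => ?_
    rw [← map_mul, ← map_mul]
    congr 1
    simp only [MulEquiv.toEquiv_eq_coe, MulEquiv.coe_toEquiv, MulAut.conjNormal_apply, inv_inv]
    group
  have hPz : P * ρ z = P := by
    rw [hP, Finset.sum_mul]
    refine Fintype.sum_equiv (Equiv.mulRight (⟨z, hz⟩ : E)) _ _ fun a => ?_
    simp [Equiv.coe_mulRight]
  have hc0 : c = 0 := by
    by_contra h
    apply hne
    show LinearMap.trace ℂ _ (ρ z) = LinearMap.trace ℂ _ (ρ 1)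
    rw [hc, smul_mul_assoc, one_mul] at hPz
    have h2 : ρ z = 1 := smul_right_injective _ h hPz
    rw [h2, map_one ρ]
  have h1 : ∑ a : E, ρ.character ((a : G) * b) = 0 := by
    show ∑ a : E, LinearMap.trace ℂ _ (ρ ((a : G) * b)) = 0
    simp only [map_mul]
    rw [← map_sum, ← Finset.sum_mul, ← hP, hc, hc0, zero_smul, zero_mul, map_zero]
  rw [Finset.sum_congr rfl (fun (a : E) (_ : a ∈ Finset.univ) => hb a a.2), Finset.sum_const,
    nsmul_eq_mul] at h1
  exact (mul_eq_zero.mp h1).resolve_left (Nat.cast_ne_zero.mpr (Finset.card_ne_zero.mpr Finset.univ_nonempty))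

/-- With trivial `p`-core a Sylow `p`-subgroup has order at most `p`. -/
theorem card_sylow_le_of_pCore_eq_bot (hV : Hyp p G) (hO : Cfsg.pCore p G = ⊥) (P : Sylow p G) :
    Nat.card ↥(P : Subgroup G) ≤ p := by
  classical
  cases nonempty_fintype G
  set K := Cfsg.pPrimeCore p G with hKdef
  set f := QuotientGroup.mk' K with hfdef
  set R := Cfsg.pCore p (G ⧸ K) with hR
  have hKR : Cfsg.pPrimeCore p (G ⧸ K) = ⊥ := CfsgLib.Components.pPrimeCore_quotient_eq_bot
  have hCR : Subgroup.centralizer (R : Set (G ⧸ K)) ≤ R := by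
    rw [hR, ← Cores.fittingSubgroup_eq_pCore p hKR]
    exact Cores.centralizer_fittingSubgroup_le
  have hPdis : K ⊓ (P : Subgroup G) = ⊥ := (disjoint_of_coprime_natCard (by
    obtain ⟨a, ha⟩ := P.isPGroup'.exists_card_eq
    rw [ha]; exact Nat.Coprime.pow_right a (Cores.coprime_card_pPrimeCore p))).eq_bot
  have hPcard : Nat.card ((P : Subgroup G).map f) = Nat.card ↥(P : Subgroup G) :=
    Basic.card_map_mk_of_disjoint K _ hPdis
  rw [← hPcard]
  have hRp : IsPGroup p R := Cores.isPGroup_pCore p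
  by_cases hR1 : R = ⊥
  · have h1 : (P : Subgroup G).map f ≤ Subgroup.centralizer (R : Set (G ⧸ K)) := fun x _ => by
      rw [Subgroup.mem_centralizer_iff]
      intro y hy
      rw [hR1] at hy
      rw [show y = 1 from hy]; simp
    have h3 : (P : Subgroup G).map f = ⊥ := le_bot_iff.mp (hR1 ▸ h1.trans hCR)
    rw [h3, Subgroup.card_bot]
    exact hp.out.one_lt.le
  have hKne : K ≠ ⊥ := by
    intro h
    apply hR1
    have h2 : R.comap f ≤ Cfsg.pCore p G := Cores.le_pCore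
      (hRp.comap_of_ker_isPGroup f (by rw [QuotientGroup.ker_mk', h]; exact IsPGroup.of_bot))
    rw [hO] at h2
    rw [← Subgroup.map_comap_eq_self_of_surjective (QuotientGroup.mk'_surjective K) R,
      le_bot_iff.mp h2, Subgroup.map_bot]
  set Z := R ⊓ Subgroup.centralizer (R : Set (G ⧸ K)) with hZ
  have hZc : ∀ x ∈ Z, ∀ y ∈ R, x * y = y * x := fun x hx y hy =>
    (Subgroup.mem_centralizer_iff.mp hx.2 y hy).symm
  let E : Subgroup (G ⧸ K) :=
    { carrier := {x | x ∈ Z ∧ x ^ p = 1}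
      mul_mem' := fun {a b} ha hb => ⟨Z.mul_mem ha.1 hb.1, by
        rw [(show Commute a b from hZc a ha.1 b hb.1.1).mul_pow, ha.2, hb.2, one_mul]⟩
      one_mem' := ⟨Z.one_mem, one_pow p⟩
      inv_mem' := fun {a} ha => ⟨Z.inv_mem ha.1, by rw [inv_pow, ha.2, inv_one]⟩ }
  haveI hEn : E.Normal := ⟨fun x hx g => ⟨Subgroup.Normal.conj_mem inferInstance x hx.1 g, by
    rw [conj_pow, hx.2]; group⟩⟩
  have hEc : ∀ x ∈ E, ∀ y ∈ E, x * y = y * x := fun x hx y hy => hZc x hx.1 y hy.1.1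
  have hpx : ∀ x ∈ R, ∃ k, x ^ p ^ k = 1 := fun x hx => by
    obtain ⟨k, hk⟩ := hRp ⟨x, hx⟩
    exact ⟨k, congrArg Subtype.val hk⟩
  have hE1 : E ≠ ⊥ := by
    haveI : Nontrivial R := (Subgroup.nontrivial_iff_ne_bot R).mpr hR1
    haveI := hRp.center_nontrivial
    obtain ⟨⟨z, hz⟩, hz1⟩ := exists_ne (1 : Subgroup.center R)
    have hzZ : (z : G ⧸ K) ∈ Z := ⟨z.2, Subgroup.mem_centralizer_iff.mpr fun y hy =>
      congrArg Subtype.val (Subgroup.mem_center_iff.mp hz ⟨y, hy⟩)⟩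
    have hz1' : (z : G ⧸ K) ≠ 1 := fun h => hz1 (Subtype.ext (Subtype.ext h))
    obtain ⟨k, hk⟩ := hpx z z.2
    have hd : p ∣ orderOf (z : G ⧸ K) := dvd_orderOf_of_ne_one hk hz1'
    intro h
    have hmem : (z : G ⧸ K) ^ (orderOf (z : G ⧸ K) / p) ∈ E :=
      ⟨Z.pow_mem hzZ _, by rw [← pow_mul, Nat.div_mul_cancel hd, pow_orderOf_eq_one]⟩
    rw [h, Subgroup.mem_bot] at hmem
    exact absurd (Nat.le_of_dvd (Nat.div_pos (Nat.le_of_dvd (orderOf_pos _) hd) hp.out.pos)
      (orderOf_dvd_of_pow_eq_one hmem)) (Nat.not_le.mpr (Nat.div_lt_self (orderOf_pos _) hp.out.one_lt))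
  obtain ⟨χ, hχ⟩ := exists_char hV hO (Nat.card E) E le_rfl hEn hEc (fun x hx => hx.2) hE1
  have hcvE : ∀ x ∈ E, x ≠ 1 → CV p x := fun x hx hx1 g hg =>
    ⟨χ, hχ g 1 (by rw [pow_one, hg]; exact hx) (by rw [pow_one, hg]; exact hx1)⟩
  have hEcard : Nat.card E = p := by
    refine le_antisymm (card_le_of_all_cv hV hKne E hEc (fun x hx => hx.2) hcvE) ?_
    obtain ⟨a, ha⟩ := (hRp.to_le (show E ≤ R from fun x hx => hx.1.1)).exists_card_eq
    have h1 : 1 < Nat.card E := (Subgroup.one_lt_card_iff_ne_bot E).mpr hE1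
    rw [ha] at h1 ⊢
    exact Nat.le_self_pow (by rintro rfl; simp at h1) p
  -- no `p`-th root in `R` of a nontrivial element of `E`
  have hroot : ∀ y ∈ R, y ^ p ∈ E → y ^ p = 1 := by
    intro y hy hyp
    by_contra hne
    obtain ⟨k, hk⟩ := hpx y hy
    exact no_step hV hk hne (fun g hg => ⟨χ, hχ g p (by rw [hg]; exact hyp) (by rw [hg]; exact hne)⟩)
      (hcvE _ hyp hne)
  have hZE : ∀ z ∈ Z, z ∈ E := by
    have aux : ∀ (k : ℕ), ∀ z ∈ Z, z ^ p ^ k = 1 → z ∈ E := by
      intro k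
      induction k with
      | zero => intro z hz hk; rw [pow_zero, pow_one] at hk; exact hk ▸ E.one_mem
      | succ k ih =>
        intro z hz hk
        rw [pow_succ', pow_mul] at hk
        exact ⟨hz, hroot z hz.1 (ih _ (Z.pow_mem hz p) hk)⟩
    intro z hz
    obtain ⟨k, hk⟩ := hpx z hz.1
    exact aux k z hz hk
  have hER : E = R := by
    by_contra hne
    have hER' : E ≤ R := fun x hx => hx.1.1
    set E' := E.subgroupOf R
    haveI : Nontrivial (R ⧸ E') := by
      rw [← not_subsingleton_iff_nontrivial]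
      intro h
      apply hne
      refine le_antisymm hER' fun x hx => ?_
      have : ((⟨x, hx⟩ : R) : R ⧸ E') = 1 := Subsingleton.elim _ _
      exact Subgroup.mem_subgroupOf.mp ((QuotientGroup.eq_one_iff _).mp this)
    haveI := (hRp.to_quotient E').center_nontrivial
    obtain ⟨⟨q, hq⟩, hq1⟩ := exists_ne (1 : Subgroup.center (R ⧸ E'))
    obtain ⟨b, rfl⟩ := QuotientGroup.mk'_surjective E' q
    have hbE : (b : G ⧸ K) ∉ E := fun h =>
      hq1 (Subtype.ext ((QuotientGroup.eq_one_iff b).mpr (Subgroup.mem_subgroupOf.mpr h)))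
    set U := ((Subgroup.center (R ⧸ E')).comap (QuotientGroup.mk' E')).map R.subtype with hU
    have hUR : U ≤ R := Subgroup.map_subtype_le _
    have hbU : (b : G ⧸ K) ∈ U := ⟨b, hq, rfl⟩
    have hUc : ∀ u ∈ U, ∀ r ∈ R, r * u * r⁻¹ * u⁻¹ ∈ E := by
      rintro _ ⟨u, hu, rfl⟩ r hr
      have h1 : QuotientGroup.mk' E' ((⟨r, hr⟩ : R) * u * (⟨r, hr⟩ : R)⁻¹ * u⁻¹) = 1 := by
        rw [map_mul, map_mul, map_mul, map_inv, map_inv, Subgroup.mem_center_iff.mp hu]
        group
      exact Subgroup.mem_subgroupOf.mp ((QuotientGroup.eq_one_iff _).mp h1)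
    -- elements of `U` have order dividing `p`
    have hUp : ∀ u ∈ U, u ^ p = 1 := by
      intro u hu
      refine hroot u (hUR hu) (hZE _ ⟨R.pow_mem (hUR hu) p, ?_⟩)
      show u ^ p ∈ Subgroup.centralizer (R : Set (G ⧸ K))
      rw [Subgroup.mem_centralizer_iff]
      intro r hr
      have hz := hUc u hu r hr
      set z := r * u * r⁻¹ * u⁻¹
      have h1 : r * u * r⁻¹ = z * u := by simp [z]
      have h2 : (r * u * r⁻¹) ^ p = u ^ p := by
        rw [h1, (show Commute z u from hZc z hz.1 u (hUR hu)).mul_pow, hz.2, one_mul]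
      rw [conj_pow] at h2
      calc r * u ^ p = (r * u ^ p * r⁻¹) * r := by group
        _ = u ^ p * r := by rw [h2]
    -- elements of `U` outside `E` have vanishing cosets
    obtain ⟨z₀, hz₀, hz₀1⟩ := E.bot_or_exists_ne_one.resolve_left hE1
    obtain ⟨ξ, hξ⟩ : ∃ ξ : Cfsg.IrrCharacter (G ⧸ K), (ξ : G ⧸ K → ℂ) z₀ ≠ (ξ : G ⧸ K → ℂ) 1 := by
      by_contra h
      push Not at h
      let : Fintype (G ⧸ K) := Fintype.ofFinite _
      exact hz₀1 (eq_one_of_forall_irr h)
    have hcvU : ∀ u ∈ U, u ∉ E → CV p u := by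
      intro u hu huE g hg
      obtain ⟨r, hr, hne1⟩ : ∃ r ∈ R, r * u * r⁻¹ * u⁻¹ ≠ 1 := by
        by_contra h
        push Not at h
        refine huE (hZE u ⟨hUR hu, Subgroup.mem_centralizer_iff.mpr fun r hr => ?_⟩)
        have h1 : r * u * r⁻¹ = u := mul_inv_eq_one.mp (h r hr)
        calc r * u = (r * u * r⁻¹) * r := by group
          _ = u * r := by rw [h1]
      set z := r * u * r⁻¹ * u⁻¹ with hz
      have hzE : z ∈ E := hUc u hu r hr
      refine ⟨⟨_, IsIrrCharacter.comp_surjective ξ.2 f (QuotientGroup.mk'_surjective K)⟩, ?_⟩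
      show (ξ : G ⧸ K → ℂ) (f g) = 0
      rw [hg]
      refine char_eq_zero_of_translate E hz₀ hξ fun a ha => ?_
      obtain ⟨i, hi⟩ : ∃ i : ℕ, z ^ i = a := by
        have h1 := mem_zpowers_of_prime_card (G := E) hEcard (g' := ⟨a, ha⟩)
          (g := ⟨z, hzE⟩) fun e => hne1 (congrArg Subtype.val e)
        obtain ⟨i, hi⟩ := (mem_powers_iff_mem_zpowers).mpr h1
        exact ⟨i, congrArg Subtype.val hi⟩
      rw [← hi]
      have hconj : ∀ i : ℕ, r ^ i * u * (r ^ i)⁻¹ = z ^ i * u := by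
        intro i
        induction i with
        | zero => simp
        | succ i ih =>
          have hzr : r * z ^ i = z ^ i * r :=
            ((show Commute z r from hZc z hzE.1 r hr).pow_left i).symm.eq
          calc r ^ (i + 1) * u * (r ^ (i + 1))⁻¹ = r * (r ^ i * u * (r ^ i)⁻¹) * r⁻¹ := by
                rw [pow_succ']; group
            _ = r * (z ^ i * u) * r⁻¹ := by rw [ih]
            _ = z ^ i * (r * u * r⁻¹) := by rw [← mul_assoc, hzr]; group
            _ = z ^ (i + 1) * u := by rw [pow_succ, hz]; group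
      rw [← hconj i]
      exact IsIrrCharacter.isClassFunction ξ.2 u (r ^ i)
    -- an elementary abelian subgroup of order larger than `p`
    set T := E ⊔ Subgroup.zpowers (b : G ⧸ K) with hT
    have hTU : T ≤ U := sup_le (fun x hx => ⟨⟨x, hER' hx⟩, by
      show QuotientGroup.mk' E' ⟨x, hER' hx⟩ ∈ Subgroup.center (R ⧸ E')
      rw [show QuotientGroup.mk' E' (⟨x, hER' hx⟩ : R) = 1 from
        (QuotientGroup.eq_one_iff _).mpr (Subgroup.mem_subgroupOf.mpr hx)]
      exact Subgroup.one_mem _, rfl⟩) (Subgroup.zpowers_le.mpr hbU)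
    have hEb : E ≤ Subgroup.centralizer (Subgroup.zpowers (b : G ⧸ K) : Set (G ⧸ K)) := fun x hx =>
      Subgroup.mem_centralizer_iff.mpr fun y hy =>
        (hZc x hx.1 y (hUR (Subgroup.zpowers_le.mpr hbU hy))).symm
    have hTc : T ≤ Subgroup.centralizer (T : Set (G ⧸ K)) := by
      rw [hT]
      refine sup_le ?_ ?_ <;> rw [Subgroup.le_centralizer_iff] <;> refine sup_le ?_ ?_
      · exact fun x hx => Subgroup.mem_centralizer_iff.mpr fun y hy => hEc y hy x hx
      · exact Subgroup.le_centralizer_iff.mp hEb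
      · exact hEb
      · exact Subgroup.le_centralizer (Subgroup.zpowers (b : G ⧸ K))
    have hle := card_le_of_all_cv hV hKne T
      (fun x hx y hy => (Subgroup.mem_centralizer_iff.mp (hTc hx) y hy).symm)
      (fun x hx => hUp x (hTU hx)) (fun x hx hx1 => by
        by_cases hxE : x ∈ E
        · exact hcvE x hxE hx1
        · exact hcvU x (hTU hx) hxE)
    have hET : E = T := Subgroup.eq_of_le_of_card_ge le_sup_left (hle.trans hEcard.ge)
    exact hbE (hET ▸ Subgroup.mem_sup_right (Subgroup.mem_zpowers _))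
  -- conclusion
  set Pb := (P : Subgroup G).map f
  have hPbp : IsPGroup p Pb := P.isPGroup'.map f
  have hRP : R ≤ Pb := by
    have h := Cores.pCore_le_sylow (P.mapSurjective (QuotientGroup.mk'_surjective K))
    rwa [Sylow.coe_mapSurjective] at h
  set N := R.subgroupOf Pb
  have hNcard : Nat.card N = p := by
    rw [Nat.card_congr (Subgroup.subgroupOfEquivOfLe hRP).toEquiv, ← hER, hEcard]
  haveI : Group.IsNilpotent Pb := hPbp.isNilpotent
  have hNc : N ≤ Subgroup.center Pb := by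
    have hN1 : N ≠ ⊥ := fun h => hp.out.ne_one (by rw [← hNcard, h, Subgroup.card_bot])
    have hne : N ⊓ Subgroup.center Pb ≠ ⊥ :=
      CfsgLib.Solvable.FrattiniFitting.inf_center_ne_bot N hN1
    have hd := Subgroup.card_dvd_of_le (inf_le_left (a := N) (b := Subgroup.center Pb))
    rw [hNcard, Nat.dvd_prime hp.out] at hd
    rcases hd with h | h
    · exact absurd (Subgroup.card_eq_one.mp h) hne
    · exact (Subgroup.eq_of_le_of_card_ge inf_le_left (by rw [hNcard, h])).ge.trans inf_le_right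
  have hPC : Pb ≤ Subgroup.centralizer (R : Set (G ⧸ K)) := fun x hx => by
    rw [Subgroup.mem_centralizer_iff]
    intro y hy
    exact (congrArg Subtype.val
      (Subgroup.mem_center_iff.mp (hNc (x := ⟨y, hRP hy⟩) hy) ⟨x, hx⟩)).symm
  calc Nat.card Pb ≤ Nat.card R := Subgroup.card_le_of_le (hPC.trans hCR)
    _ = p := by rw [← hER, hEcard]

omit [Group.IsSolvable G] in
/-- **Main lemma.** -/
theorem card_sylow_le [Group.IsSolvable G] {b : ℕ}
    (hb : ∀ g : G, Van g → p ∣ orderOf g → orderOf g = b) (P : Sylow p G) :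
    Nat.card ↥((P : Subgroup G).map (QuotientGroup.mk' (Cfsg.pCore p G))) ≤ p ∧
      Nat.card ↥(P : Subgroup G) ≤ p * Nat.card ↥(Cfsg.pCore p G) := by
  have h := card_sylow_le_of_pCore_eq_bot (hyp_quotient hb)
    (CfsgLib.Components.SFT.pCore_quotient_eq_bot p G)
    (P.mapSurjective (QuotientGroup.mk'_surjective (Cfsg.pCore p G)))
  rw [Sylow.coe_mapSurjective] at h
  refine ⟨h, ?_⟩
  have h2 := Basic.card_map_mk_mul (Cfsg.pCore p G) (P : Subgroup G)
  rw [inf_eq_left.mpr (Cores.pCore_le_sylow P)] at h2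
  rw [← h2]
  exact Nat.mul_le_mul_right _ h

end CfsgLib.DegreeTools.VanishSingular
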