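import Cfsg.Agent.Lib.Char.LinearOverNormal
import Cfsg.Agent.Lib.Coprime.Abelian
import Mathlib.GroupTheory.FiniteAbelian.Duality

/-!
# Regular orbits of abelian coprime actions, and vanishing off the conjugates of an inertia group
-/

set_option autoImplicit false

namespace CfsgLib.DegreeTools.VanishSingular

open CfsgLib CfsgLib.Char CfsgLib.Char.LinearOverNormal

/-- A faithful coprime action of a finite abelian group on an abelian group has a regular orbit. -/
theorem exists_regular {A M : Type*} [CommGroup A] [Finite A] [CommGroup M] (ρ : A →* MulAut M)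
    (hρ : Function.Injective ρ) {k : ℕ} (hk : ∀ m : M, m ^ k = 1)
    (hcop : (Nat.card A).Coprime k) : ∃ m : M, ∀ a : A, ρ a m = m → a = 1 := by
  classical
  let : Fintype A := Fintype.ofFinite A
  let S : M → Finset A := fun m => Finset.univ.filter fun a => ρ a m = m
  set m := Function.argmin (fun m => (S m).card) with hm
  have hmin : ∀ n, (S m).card ≤ (S n).card := fun n => Function.argmin_le (fun m => (S m).card) n
  refine ⟨m, fun a ha => ?_⟩
  by_contra ha1
  let B : Subgroup A :=
    { carrier := {b | ρ b m = m}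
      mul_mem' := fun {x y} (hx : ρ x m = m) (hy : ρ y m = m) => by
        show ρ (x * y) m = m
        rw [map_mul, MulAut.mul_apply, hy, hx]
      one_mem' := by
        show ρ 1 m = m
        rw [map_one, MulAut.one_apply]
      inv_mem' := fun {x} (hx : ρ x m = m) => by
        show ρ x⁻¹ m = m
        conv_lhs => rw [← hx]
        rw [← MulAut.mul_apply, ← map_mul, inv_mul_cancel, map_one, MulAut.one_apply] }
  obtain ⟨w, hw⟩ : ∃ w, ρ a w ≠ w := by
    by_contra h
    push Not at h
    exact ha1 (hρ (by rw [map_one]; exact MulEquiv.ext h))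
  set N := CfsgLib.Coprime.normOver ρ B with hN
  set n := ρ a w / w with hn
  have hn1 : n ≠ 1 := fun h => hw (div_eq_one.mp h)
  have hmul : ∀ x y, N (x * y) = N x * N y := CfsgLib.Coprime.normOver_mul ρ B
  have hNn : N n = 1 := by
    have h1 : N n * N w = N w := by
      rw [← hmul, hn, div_mul_cancel]
      exact CfsgLib.Coprime.normOver_apply ρ B ha w
    exact mul_eq_right.mp h1
  have hcomm : ∀ c x, N (ρ c x) = ρ c (N x) := by
    intro c x
    simp only [hN, CfsgLib.Coprime.normOver, map_prod]
    refine Finset.prod_congr rfl fun b _ => ?_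
    rw [← MulAut.mul_apply, ← MulAut.mul_apply, ← map_mul, ← map_mul, mul_comm]
  have hcancel : ∀ x : M, x ^ Nat.card B = 1 → x = 1 := by
    intro x hx
    have h1 : (Nat.card B).gcd k = 1 :=
      Nat.Coprime.coprime_dvd_left (Subgroup.card_subgroup_dvd_card B) hcop
    have h2 : x ^ (Nat.card B).gcd k = 1 := pow_gcd_eq_one.mpr ⟨hx, hk x⟩
    rwa [h1, pow_one] at h2
  have hsplit : ∀ c, ρ c (m * n) = m * n → ρ c m = m ∧ ρ c n = n := by
    intro c hc
    have h1 := congrArg N hc
    rw [hcomm, hmul, hNn, mul_one, hN, CfsgLib.Coprime.normOver_fixed ρ B (fun b hb => hb),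
      map_pow] at h1
    have h2 : ρ c m = m := div_eq_one.mp (hcancel _ (by rw [div_pow, h1, div_self']))
    refine ⟨h2, ?_⟩
    rw [map_mul, h2] at hc
    exact mul_left_cancel hc
  obtain ⟨b, hb, hbn⟩ : ∃ b ∈ B, ρ b n ≠ n := by
    by_contra h
    push Not at h
    exact hn1 (hcancel n (by rw [← CfsgLib.Coprime.normOver_fixed ρ B h]; exact hNn))
  have hlt : (S (m * n)).card < (S m).card := by
    refine Finset.card_lt_card (Finset.ssubset_iff_of_subset ?_ |>.mpr ⟨b, ?_, ?_⟩)
    · intro c hc
      simp only [S, Finset.mem_filter, Finset.mem_univ, true_and] at hc ⊢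
      exact (hsplit c hc).1
    · simp only [S, Finset.mem_filter, Finset.mem_univ, true_and]
      exact hb
    · simp only [S, Finset.mem_filter, Finset.mem_univ, true_and]
      exact fun h => hbn (hsplit b h).2
  exact absurd (hmin (m * n)) (not_le.mpr hlt)

universe u
variable {G : Type u} [Group G] [Finite G]

/-- A faithful coprime abelian group of operators fixes no suitable linear character of `W`. -/
theorem exists_regular_char (W E : Subgroup G) [W.Normal] (hW : IsMulCommutative W)
    (hE : IsMulCommutative E) (hcop : (Nat.card E).Coprime (Nat.card W))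
    (hf : ∀ e ∈ E, (∀ w ∈ W, e * w = w * e) → e = 1) :
    ∃ μ : W →* ℂˣ, ∀ e ∈ E, e ∈ stab (G := G) (fn μ) → e = 1 := by
  haveI := hW
  haveI := hE
  letI : CommGroup E := { (inferInstance : Group E) with mul_comm := mul_comm' }
  letI : CommGroup W := { (inferInstance : Group W) with mul_comm := mul_comm' }
  let φ : E → MulAut (W →* ℂˣ) := fun e =>
    { toFun := fun μ => cj ((e : G)⁻¹) μ
      invFun := fun μ => cj (e : G) μ
      left_inv := fun μ => by
        dsimp only
        rw [← cj_comp, inv_mul_cancel, cj_one]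
      right_inv := fun μ => by
        dsimp only
        rw [← cj_comp, mul_inv_cancel, cj_one]
      map_mul' := fun μ ν => cj_mul _ μ ν }
  let ρ : E →* MulAut (W →* ℂˣ) := MonoidHom.mk' φ fun a b => MulEquiv.ext fun μ => by
    show cj ((a * b : E) : G)⁻¹ μ = cj ((a : G)⁻¹) (cj ((b : G)⁻¹) μ)
    rw [← cj_comp, Subgroup.coe_mul, mul_inv_rev]
  have hρ : Function.Injective ρ := by
    rw [injective_iff_map_eq_one]
    intro e he
    refine Subtype.ext (hf e e.2 fun w hw => ?_)
    by_contra hne
    let w' : W := (MulAut.conjNormal (e : G)⁻¹) ⟨w, hw⟩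
    have hne' : w' * (⟨w, hw⟩ : W)⁻¹ ≠ 1 := by
      intro h
      have h1 := congrArg Subtype.val (mul_inv_eq_one.mp h)
      simp only [w', MulAut.conjNormal_apply, inv_inv] at h1
      apply hne
      calc (e : G) * w = (e : G) * ((e : G)⁻¹ * w * (e : G)) := by rw [h1]
        _ = w * (e : G) := by group
    obtain ⟨χ, hχ⟩ := CommGroup.exists_apply_ne_one_of_hasEnoughRootsOfUnity W ℂ hne'
    apply hχ
    have h1 : cj ((e : G)⁻¹) χ = χ := DFunLike.congr_fun he χ
    rw [map_mul, map_inv, mul_inv_eq_one]
    exact DFunLike.congr_fun h1 (⟨w, hw⟩ : W)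
  obtain ⟨μ, hμ⟩ := exists_regular ρ hρ (k := Nat.card W) (fun (μ : W →* ℂˣ) => by
    refine MonoidHom.ext fun x => ?_
    rw [MonoidHom.pow_apply, ← map_pow, pow_card_eq_one', map_one, MonoidHom.one_apply]) hcop
  refine ⟨μ, fun e he hes => ?_⟩
  have h1 : cj e μ = μ := mem_stab_fn.mp hes
  have h2 := hμ ⟨e, he⟩ (show cj ((e : G)⁻¹) μ = μ by
    conv_lhs => rw [← h1]
    rw [← cj_comp, mul_inv_cancel, cj_one])
  exact congrArg Subtype.val h2

/-- Over a linear character of a normal subgroup there is an irreducible character vanishing at every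
element having no conjugate in the inertia group. -/
theorem exists_vanishing {W : Subgroup G} [W.Normal] (μ : W →* ℂˣ) :
    ∃ χ : Cfsg.IrrCharacter G, ∀ g : G, (∀ x : G, x⁻¹ * g * x ∉ stab (G := G) (fn μ)) →
      (χ : G → ℂ) g = 0 := by
  classical
  cases nonempty_fintype G
  have hθ : Cfsg.IsIrrCharacter W (fn μ) := isIrrCharacter_hom μ
  obtain ⟨χ, hχ, hov⟩ := exists_over hθ
  have hle : W ≤ stab (G := G) (fn μ) := le_stab (IsIrrCharacter.isClassFunction hθ)
  obtain ⟨ψ, -, -, he⟩ := exists_eq_indFun_inertia hle hθ (isInertia_stab _) hχ hov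
  refine ⟨⟨χ, hχ⟩, fun g hg => ?_⟩
  show χ g = 0
  rw [he]
  exact indFun_eq_zero_of_forall _ _ hg

end CfsgLib.DegreeTools.VanishSingular
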